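import Cfsg.Agent.Spor.J4H.X.D0

set_option autoImplicit false
set_option maxRecDepth 100000000
set_option Elab.async false

namespace Cfsg.Agent.Spor.J4H.X

theorem uok3 : Net.okb 15 un3 = true := by decide +kernel

theorem rel3 : U.rel 15 [7, 1, 4, 5] 0 15 = true := by decide +kernel

theorem rel4 : U.rel 15 [3, 3, 3] 0 15 = true := by decide +kernel

theorem rel5 : U.rel 15 [7, 7, 7, 7, 7, 7] 0 15 = true := by decide +kernel

theorem rel6 : U.rel 15 [3, 7, 7, 4, 8, 3, 7, 7, 4, 8] 0 15 = true := by decide +kernel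

theorem rel7 : U.rel 15 [3, 7, 7, 3, 8, 8, 3, 7, 7, 3, 8, 8] 0 15 = true := by decide +kernel

theorem rel8 : U.rel 15 [3, 7, 3, 7, 7, 3, 8, 4, 8, 4, 7, 4, 7] 0 15 = true := by decide +kernel

theorem rel9 : U.rel 15 [3, 8, 3, 8, 3, 8, 3, 8, 3, 8] 0 15 = true := by decide +kernel

theorem gr11 : sub M10 (U.growI W1 [0, 1, 2, 2, 1, 0, 0, 1, 2, 2, 1, 0, 0, 1, 2, 2, 1, 0, 0, 1, 2, 2, 1, 0] (Nat.shiftLeft 1 0)) = true := by decide +kernel

theorem cl13 : band (U.closedW W1 M10) (sub (Nat.shiftLeft 1 0) M10) = true := by decide +kernel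

theorem sz14 : sizeOk 15 M10 17280 = true := by decide +kernel

end Cfsg.Agent.Spor.J4H.X
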