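import Cfsg.Agent.Spor.Prim
import Cfsg.Agent.Spor.J4H.Main
import Cfsg.Agent.Spor.J4H.X.C0
import Cfsg.Agent.Spor.TT2
import Cfsg.Agent.Spor.DC

set_option autoImplicit false
set_option maxRecDepth 100000000
set_option Elab.async false

namespace Cfsg.Agent.Spor.J4H.X

theorem hU : U.Ok 15 := U.ok_of 15 (show AllP (fun n => Net.okb 15 n = true) [n0, n1, n2, un3] from AllP.cons ok0 (AllP.cons ok1 (AllP.cons ok2 (AllP.cons uok3 (AllP.nil)))))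

theorem hfP : ∀ j < 3, U.fP [1, 3, 5] j = fP j := by
  intro j hj
  interval_cases j <;> rfl
theorem eG : gsub 3 fP = U.lsub W1 := (gsub_congr hfP).symm.trans (lsub_eq_gsub U [1, 3, 5])
theorem upz1 : ev (atm 3 fP) [0] = U.τ 1 := pz1
theorem upz3 : ev (atm 3 fP) [2] = U.τ 3 := pz2
theorem upz5 : ev (atm 3 fP) [4] = U.τ 5 := pz3
theorem eH : wsub 3 fP BW = U.lsub W2 :=
  lsub_eq_of_all₂ (show List.Forall₂ _ [] [] from List.Forall₂.nil)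
theorem vpz1 : PZ U (atm 3 fP) EXU 1 := pz1
theorem vpz2 : PZ U (atm 3 fP) EXU 2 := PZ.of_inv hiv vpz1 (by decide +kernel)
theorem vpz3 : PZ U (atm 3 fP) EXU 3 := pz2
theorem vpz4 : PZ U (atm 3 fP) EXU 4 := PZ.of_inv hiv vpz3 (by decide +kernel)
theorem vpz5 : PZ U (atm 3 fP) EXU 5 := pz3
theorem vpz6 : PZ U (atm 3 fP) EXU 6 := PZ.of_inv hiv vpz5 (by decide +kernel)
theorem vpz7 : PZ U (atm 3 fP) EXU 7 := PZ.of_def hiv (d := [1, 4, 5]) (AllP.cons vpz1 (AllP.cons vpz4 (AllP.cons vpz5 (AllP.nil)))) (hU.one rel3) (by decide +kernel)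
theorem vpz8 : PZ U (atm 3 fP) EXU 8 := PZ.of_inv hiv vpz7 (by decide +kernel)
theorem hPZU : AllP (PZ U (atm 3 fP) EXU) LU :=
  show AllP (PZ U (atm 3 fP) EXU) [1, 2, 3, 4, 5, 6, 7, 8] from AllP.cons vpz1 (AllP.cons vpz2 (AllP.cons vpz3 (AllP.cons vpz4 (AllP.cons vpz5 (AllP.cons vpz6 (AllP.cons vpz7 (AllP.cons vpz8 (AllP.nil))))))))
theorem hXL : ∀ l ∈ XL, ev (atm 3 fP) l = 1 :=
  relAll_sound hiv (W := [[3, 3, 3], [7, 7, 7, 7, 7, 7], [3, 7, 7, 4, 8, 3, 7, 7, 4, 8], [3, 7, 7, 3, 8, 8, 3, 7, 7, 3, 8, 8], [3, 7, 3, 7, 7, 3, 8, 4, 8, 4, 7, 4, 7], [3, 8, 3, 8, 3, 8, 3, 8, 3, 8]]) (rules := [⟨[3, 3, 3], [], 0, true⟩, ⟨[7, 7, 7, 7, 7, 7], [], 1, true⟩, ⟨[3, 7, 7, 4, 8, 3, 7, 7, 4, 8], [], 2, true⟩, ⟨[3, 7, 7, 3, 8, 8, 3, 7, 7, 3, 8, 8], [], 3, true⟩, ⟨[3, 7, 3, 7, 7, 3, 8, 4, 8, 4, 7, 4, 7], [], 4, true⟩, ⟨[3, 8, 3, 8, 3, 8, 3, 8, 3, 8], [],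 5, true⟩]) hPZU (AllP.cons (hU.one rel4) (AllP.cons (hU.one rel5) (AllP.cons (hU.one rel6) (AllP.cons (hU.one rel7) (AllP.cons (hU.one rel8) (AllP.cons (hU.one rel9) (AllP.nil))))))) (by decide +kernel)
theorem reach12 : Reach (U.lsub W1) 0 M10 := (Reach.grow hU (Reach.base _ 0) gr11)
theorem orb15 : (orbS (U.lsub W1) 0).ncard = 17280 := reach12.ncard hU cl13 sz14
theorem orb15e : orbS (U.lsub W1) 0 = {c | Nat.testBit M10 c = true} := reach12.orb hU cl13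
theorem lb : 17280 ∣ Nat.card (U.lsub W1) := dvd_card_orb orb15
theorem trans {G : Type} [Group G] {f : ℕ → G} (hf : Pres 3 0 RL f) : ∀ l ∈ XL, ev (atm 3 f) l = 1 :=
  fun l hl => cert.bound_nil.transfer (by norm_num) cert.pres (eG ▸ lb) hf (hXL l hl)

end Cfsg.Agent.Spor.J4H.X
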